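import Cfsg.Agent.H76.WA.UnitaryCoord
import Cfsg.Agent.H77.WA.Defs
import Cfsg.Agent.H58.CI.Cover

/-!
# The facts about `PSU₃(2ⁿ)` used for strongly closed abelian subgroups

`nData_unitary`: the fields of `NData` for every Sylow 2-subgroup, from the coordinates of
`UnitaryCoord`.  `cover_unitary`: a quasisimple group with trivial odd core over `PSU₃(2ⁿ)` has
trivial centre.
-/

set_option autoImplicit false
set_option linter.unusedSectionVars false
set_option linter.style.haveILetI false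

namespace Cfsg.Agent.H76.WA

open Subgroup
open Cfsg.Agent.H33.SylU
open Cfsg.Agent.H77.WA (NData HasSinger)
open Cfsg.Agent.H21.Walter (OddTrivialAt)
open scoped commutatorElement

universe u

local instance fact_two_wa : Fact (Nat.Prime 2) := ⟨Nat.prime_two⟩

variable {K : Type u} [Group K] [Finite K] {F : Type} [Field F] [Fintype F] {n : ℕ}
  [hQ : QField F n]

local notation "c[" x "]" => cj2 n x

namespace Coord

variable (C : Coord K F n)

local notation "N(" X ")" => normalizer ((X : Subgroup K) : Set K)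

/-- The Sylow subgroup. -/
def sylow : Subgroup K :=
  C.e.range

/-- The involutions and `1`. -/
def invo : Subgroup K :=
  (center (Heis F n)).map C.e

include hQ

theorem e_mem (g : Heis F n) : C.e g ∈ C.sylow :=
  ⟨g, rfl⟩

theorem mem_invo_iff {x : K} : x ∈ C.invo ↔ ∃ g : Heis F n, g.a = 0 ∧ C.e g = x := by
  simp only [invo, mem_map, H33.SylU.mem_center_iff]

theorem e_mem_invo {g : Heis F n} : C.e g ∈ C.invo ↔ g.a = 0 := by
  rw [mem_invo_iff]
  exact ⟨fun ⟨h, ha, e⟩ => C.inj e ▸ ha, fun h => ⟨g, h, rfl⟩⟩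

theorem invo_le : C.invo ≤ C.sylow :=
  fun x hx => let ⟨g, _, e⟩ := C.mem_invo_iff.1 hx; ⟨g, e⟩

theorem a_eq_of_mod {g h : Heis F n} (hm : C.e h * (C.e g)⁻¹ ∈ C.invo) : h.a = g.a := by
  rw [← map_inv, ← map_mul, e_mem_invo, mul_a, inv_a] at hm
  linear_combination hm - add_self (n := n) g.a

theorem mod_of_a_eq {g h : Heis F n} (e : h.a = g.a) : C.e h * (C.e g)⁻¹ ∈ C.invo := by
  rw [← map_inv, ← map_mul, e_mem_invo, mul_a, inv_a, e, add_self (n := n)]

theorem isPGroup : IsPGroup 2 C.sylow :=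
  isPGroup_heis.of_equiv (MonoidHom.ofInjective C.inj)

theorem exists_pow {x : K} (hx : x ∈ C.sylow) : ∃ k : ℕ, x ^ 2 ^ k = 1 := by
  obtain ⟨k, hk⟩ := C.isPGroup ⟨x, hx⟩
  exact ⟨k, congrArg Subtype.val hk⟩

omit hQ in
theorem eq_one_of_odd_pow {x : K} {k m : ℕ} (hk : x ^ 2 ^ k = 1) (hm : Odd m) (h : x ^ m = 1) :
    x = 1 :=
  orderOf_eq_one_iff.1 (Nat.eq_one_of_dvd_coprimes ((Nat.coprime_two_left.2 hm).pow_left k)
    (orderOf_dvd_of_pow_eq_one hk) (orderOf_dvd_of_pow_eq_one h))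

theorem tor_mem (c : Fˣ) : C.tor c ∈ N(C.sylow) := by
  refine mem_normalizer_iff.2 fun x => ⟨?_, ?_⟩
  · rintro ⟨g, rfl⟩
    exact ⟨dil c g, (C.conj_tor c g).symm⟩
  · rintro ⟨g, hg⟩
    refine ⟨dil c⁻¹ g, ?_⟩
    rw [← C.conj_tor, hg, map_inv]
    group

theorem exists_act {x : K} (hx : x ∈ N(C.sylow)) :
    ∃ (c : Fˣ) (k : Heis F n), x = C.tor c * C.e k ∧
      ∀ g, x * C.e g * x⁻¹ = C.e (dil c (k * g * k⁻¹)) := by
  obtain ⟨c, k, rfl⟩ := C.norm x hx
  refine ⟨c, k, rfl, fun g => ?_⟩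
  rw [← C.conj_tor, map_mul, map_mul, map_inv]
  group

omit [Finite K] in
theorem conj_cen (k g : Heis F n) (hg : g.a = 0) : k * g * k⁻¹ = g := by
  rw [(Subgroup.mem_center_iff.1 (H33.SylU.mem_center_iff.2 hg) k), mul_inv_cancel_right]

omit [Finite K] in
theorem conj_a (k g : Heis F n) : (k * g * k⁻¹).a = g.a := by
  simp only [mul_a, inv_a]
  linear_combination add_self (n := n) k.a

theorem mem_of_mu {x : K} {c : Fˣ} {k : Heis F n} (hx : x = C.tor c * C.e k)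
    (h : mu n (c : F) = 1) : x ∈ C.sylow := by
  rw [hx, C.tor_triv c h, one_mul]
  exact C.e_mem k

theorem mem_of_triv {x : K} (hx : x ∈ N(C.sylow))
    (h : ∀ g, ∃ g', x * C.e g * x⁻¹ = C.e g' ∧ g'.a = g.a) : x ∈ C.sylow := by
  obtain ⟨c, k, hxe, hact⟩ := C.exists_act hx
  obtain ⟨g, hg⟩ := exists_lift (F := F) (n := n) 1
  obtain ⟨g', he, ha⟩ := h g
  rw [hact] at he
  have := congrArg Heis.a (C.inj he)
  rw [dil_a, conj_a, ha, hg, mul_one] at this
  exact C.mem_of_mu hxe this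

theorem centralizer_invo_le {g : Heis F n} (ha : g.a = 0) (h1 : g ≠ 1) :
    centralizer ({C.e g} : Set K) ≤ N(C.sylow) :=
  fun x hx => C.cent g ha h1 x (mem_centralizer_singleton_iff.1 hx)

theorem le_centralizer_invo : C.sylow ≤ centralizer (C.invo : Set K) := by
  rintro _ ⟨h, rfl⟩
  refine mem_centralizer_iff.2 fun y hy => ?_
  obtain ⟨g, ha, rfl⟩ := C.mem_invo_iff.1 hy
  rw [← map_mul, ← map_mul, Subgroup.mem_center_iff.1 (H33.SylU.mem_center_iff.2 ha) h]

/-- A `2`-element of the normaliser lies in the Sylow subgroup. -/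
theorem mem_of_two_pow {x : K} (hx : x ∈ N(C.sylow)) {k : ℕ} (hk : x ^ 2 ^ k = 1) :
    x ∈ C.sylow := by
  obtain ⟨P, hP⟩ : ∃ P : Sylow 2 K, (P : Subgroup K) = C.sylow := C.syl
  have hp : IsPGroup 2 (zpowers x) := fun y => by
    obtain ⟨i, hi⟩ := y.2
    refine ⟨k, Subtype.ext ?_⟩
    rw [SubmonoidClass.coe_pow, ← hi, ← zpow_natCast, ← zpow_mul, mul_comm, zpow_mul, zpow_natCast,
      hk, one_zpow, OneMemClass.coe_one]
  have hsup := hp.to_sup_of_normal_right' C.isPGroup (zpowers_le.2 hx)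
  have e := P.is_maximal' hsup (hP.le.trans le_sup_right)
  exact (e.trans hP).le (mem_sup_left (mem_zpowers x))

/-- Distinct conjugates of the Sylow subgroup meet trivially. -/
theorem ti {g v : K} (hg : g ∉ N(C.sylow)) (hv : v ∈ C.sylow) (hv' : g⁻¹ * v * g ∈ C.sylow) :
    v = 1 := by
  by_contra hv1
  obtain ⟨w, hw, hw', hw1, hw2⟩ : ∃ w, w ∈ C.sylow ∧ g⁻¹ * w * g ∈ C.sylow ∧ w ≠ 1 ∧ w * w = 1 := by
    obtain ⟨h, rfl⟩ := hv
    by_cases ha : h.a = 0
    · exact ⟨C.e h, C.e_mem h, hv', hv1, by rw [← map_mul, H33.SylU.mul_self_eq_one_iff.2 ha, map_one]⟩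
    · refine ⟨C.e (h * h), C.e_mem _, ?_, fun e => ha ?_, ?_⟩
      · rw [map_mul, show g⁻¹ * (C.e h * C.e h) * g = (g⁻¹ * C.e h * g) * (g⁻¹ * C.e h * g) by group]
        exact mul_mem hv' hv'
      · exact H33.SylU.mul_self_eq_one_iff.1 (C.inj (e.trans (map_one C.e).symm))
      · rw [← map_mul, H33.SylU.mul_self_eq_one_iff.2 (by rw [mul_a, add_self (n := n)]), map_one]
  obtain ⟨z, hz⟩ := hw'
  have hza : z.a = 0 := H33.SylU.mul_self_eq_one_iff.1 (C.inj (by
    rw [map_mul, map_one, hz, show g⁻¹ * w * g * (g⁻¹ * w * g) = g⁻¹ * (w * w) * g by group, hw2]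
    group))
  obtain ⟨z', rfl⟩ := hw
  have hza' : z'.a = 0 := H33.SylU.mul_self_eq_one_iff.1 (C.inj (by rw [map_mul, map_one, hw2]))
  have hle : C.sylow.map (MulAut.conj g).toMonoidHom ≤ C.sylow := by
    rintro _ ⟨t, ⟨s, rfl⟩, rfl⟩
    show g * C.e s * g⁻¹ ∈ C.sylow
    obtain ⟨j, hj⟩ := C.exists_pow (C.e_mem s)
    refine C.mem_of_two_pow (C.cent z' hza' (fun e => hw1 (by rw [e, map_one])) _ ?_) (k := j) (by
      rw [conj_pow, hj, mul_one, mul_inv_cancel])
    have hc : C.e s * C.e z = C.e z * C.e s := by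
      rw [← map_mul, ← map_mul, Subgroup.mem_center_iff.1 (H33.SylU.mem_center_iff.2 hza) s]
    rw [hz] at hc
    calc g * C.e s * g⁻¹ * C.e z' = g * (C.e s * (g⁻¹ * C.e z' * g)) * g⁻¹ := by group
      _ = C.e z' * (g * C.e s * g⁻¹) := by rw [hc]; group
  exact hg (mem_normalizer_iff_map_conj_eq.2 (eq_of_le_of_card_ge hle
    (le_of_eq (card_map_of_injective (MulAut.conj g).injective).symm)))

include C in
/-- The centre of `K` is trivial. -/
theorem center_eq_bot [IsSimpleGroup K] : center K = ⊥ := by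
  refine (IsSimpleGroup.eq_bot_or_eq_top_of_normal (center K) inferInstance).resolve_right fun h => ?_
  obtain ⟨g, hg⟩ := exists_lift (F := F) (n := n) 1
  have hgc : g ∈ center (Heis F n) := Subgroup.mem_center_iff.2 fun k => C.inj (by
    rw [map_mul, map_mul]
    exact Subgroup.mem_center_iff.1 (h ▸ mem_top (C.e g)) _)
  exact one_ne_zero (hg.symm.trans (H33.SylU.mem_center_iff.1 hgc))

theorem cen_one_ne : (cen ⟨1, cj2_one⟩ : Heis F n) ≠ 1 := fun h =>
  one_ne_zero (congrArg Heis.b h : (1 : F) = 0)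

theorem normalCore_eq_bot [IsSimpleGroup K] : (N(C.sylow)).normalCore = ⊥ := by
  refine (IsSimpleGroup.eq_bot_or_eq_top_of_normal _ (normalCore_normal _)).resolve_right fun h => ?_
  have hN : N(C.sylow) = ⊤ := top_le_iff.1 (h ▸ normalCore_le _)
  haveI : C.sylow.Normal := normalizer_eq_top_iff.1 hN
  rcases (inferInstance : C.sylow.Normal).eq_bot_or_eq_top with e | e
  · exact cen_one_ne (n := n) (C.inj ((mem_bot.1 (e ▸ C.e_mem _)).trans (map_one C.e).symm))
  · have hz : C.e (cen ⟨1, cj2_one⟩) ∈ center K := Subgroup.mem_center_iff.2 fun y => by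
      obtain ⟨k, rfl⟩ : y ∈ C.sylow := e ▸ mem_top y
      rw [← map_mul, ← map_mul, Subgroup.mem_center_iff.1 (H33.SylU.mem_center_iff.2 (cen_a _)) k]
    rw [C.center_eq_bot, mem_bot] at hz
    exact cen_one_ne (n := n) (C.inj (hz.trans (map_one C.e).symm))

theorem centralizer_le : centralizer (C.sylow : Set K) ≤ C.invo := by
  intro x hx
  have hcomm : ∀ g, x * C.e g = C.e g * x := fun g => (mem_centralizer_iff.1 hx _ (C.e_mem g)).symm
  have hN := C.cent _ (cen_a ⟨1, cj2_one⟩) cen_one_ne x (hcomm _)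
  obtain ⟨k, rfl⟩ := C.mem_of_triv hN fun g => ⟨g, by rw [hcomm g, mul_inv_cancel_right], rfl⟩
  refine C.e_mem_invo.2 (H33.SylU.mem_center_iff.1 (Subgroup.mem_center_iff.2 fun g => C.inj ?_))
  rw [map_mul, map_mul, hcomm g]

/-- An odd automorphism fixing the Sylow subgroup pointwise is trivial. -/
theorem eq_one_of_fixes [IsSimpleGroup K] {φ : MulAut K} (hφ : Odd (orderOf φ))
    (h : H88.Walter.Fixes φ C.sylow) : φ = 1 := by
  obtain ⟨P, hP⟩ : ∃ P : Sylow 2 K, (P : Subgroup K) = C.sylow := C.syl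
  -- the normaliser is fixed
  have hB : H88.Walter.Fixes φ (N(C.sylow)) := by
    intro x hx
    have hd : x⁻¹ * φ x ∈ C.invo := by
      refine C.centralizer_le (mem_centralizer_iff.2 fun t ht => ?_)
      have h1 : x * t * x⁻¹ ∈ C.sylow := (mem_normalizer_iff.1 hx t).1 ht
      have h2 := h _ h1
      rw [map_mul, map_mul, map_inv, h t ht] at h2
      have h3 : φ x * t = x * t * x⁻¹ * φ x := by rw [← h2, inv_mul_cancel_right]
      calc t * (x⁻¹ * φ x) = x⁻¹ * (x * t * x⁻¹ * φ x) := by group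
        _ = x⁻¹ * (φ x * t) := by rw [h3]
        _ = x⁻¹ * φ x * t := by group
    set v := x⁻¹ * φ x with hv
    have hx' : φ x = x * v := by rw [hv, mul_inv_cancel_left]
    have hk : ∀ k : ℕ, (φ ^ k) x = x * v ^ k := by
      intro k
      induction k with
      | zero => simp
      | succ k ih =>
        rw [pow_succ, MulAut.mul_apply, hx', map_mul, ih, (h.pow k) v (C.invo_le hd), mul_assoc,
          ← pow_succ]
    have hv1 : v ^ orderOf φ = 1 := by
      have := hk (orderOf φ)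
      rw [pow_orderOf_eq_one, MulAut.one_apply] at this
      exact left_eq_mul.1 this
    obtain ⟨j, hj⟩ := C.exists_pow (C.invo_le hd)
    rw [hx', eq_one_of_odd_pow hj hφ hv1, mul_one]
  refine H88.Walter.eq_one_of_fixes_cosets C.normalCore_eq_bot fun g => ?_
  by_cases hg : g ∈ N(C.sylow)
  · rw [hB g hg, inv_mul_cancel]; exact one_mem _
  have hgφ : φ g ∉ N(C.sylow) := fun hm => hg (φ.injective (hB _ hm) ▸ hm)
  have hne : ∀ {x : K}, x ∉ N(C.sylow) → x • P ≠ P := fun {x} hx e => hx (by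
    rw [← hP]; exact Sylow.smul_eq_iff_mem_normalizer.1 e)
  obtain ⟨v, hv, hvg⟩ := C.trans P (g • P) (φ g • P) (hne hg) (hne hgφ)
  rw [hP] at hv
  have hb : (v * g)⁻¹ * φ g ∈ N(C.sylow) := by
    rw [← hP]
    apply Sylow.smul_eq_iff_mem_normalizer.1
    rw [mul_smul, inv_smul_eq_iff, mul_smul, hvg]
  set b := (v * g)⁻¹ * φ g with hbdef
  have hφg : φ g = v * g * b := by rw [hbdef, mul_inv_cancel_left]
  have hk : ∀ k : ℕ, ∃ c ∈ N(C.sylow), (φ ^ k) g = v ^ k * g * c := by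
    intro k
    induction k with
    | zero => exact ⟨1, one_mem _, by simp⟩
    | succ k ih =>
      obtain ⟨c, hc, hck⟩ := ih
      refine ⟨c * b, mul_mem hc hb, ?_⟩
      rw [pow_succ φ, MulAut.mul_apply, hφg, map_mul, map_mul, (h.pow k) v hv, hck,
        (hB.pow k) b hb, pow_succ']
      group
  obtain ⟨c, hc, hck⟩ := hk (orderOf φ)
  rw [pow_orderOf_eq_one, MulAut.one_apply] at hck
  obtain ⟨j, hj⟩ := C.exists_pow hv
  have hvm : v ^ orderOf φ = 1 := by
    refine C.ti hg (pow_mem hv _) (C.mem_of_two_pow (k := j) ?_ ?_)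
    · rw [show g⁻¹ * v ^ orderOf φ * g = g⁻¹ * (v ^ orderOf φ * g * c) * c⁻¹ by group, ← hck]
      simpa using inv_mem hc
    · rw [show g⁻¹ * v ^ orderOf φ * g = g⁻¹ * v ^ orderOf φ * g⁻¹⁻¹ by rw [inv_inv], conj_pow,
        ← pow_mul, mul_comm, pow_mul, hj, one_pow]
      group
  rw [hφg, eq_one_of_odd_pow hj hφ hvm, one_mul, inv_mul_cancel_left]
  exact hb

/-! ### The fields of `NData` -/

theorem mem_iff (x : K) : x ∈ C.invo ↔ x ∈ C.sylow ∧ x * x = 1 := by
  constructor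
  · intro hx
    obtain ⟨g, ha, rfl⟩ := C.mem_invo_iff.1 hx
    exact ⟨C.e_mem g, by rw [← map_mul, H33.SylU.mul_self_eq_one_iff.2 ha, map_one]⟩
  · rintro ⟨⟨g, rfl⟩, h⟩
    exact C.e_mem_invo.2 (H33.SylU.mul_self_eq_one_iff.1 (C.inj (by rw [map_mul, h, map_one])))

theorem card_invo : Nat.card C.invo = 2 ^ n := by
  rw [invo, card_map_of_injective C.inj, card_center]

theorem commutator_eq : ⁅C.sylow, C.sylow⁆ = C.invo := by
  rw [invo, ← commutator_eq_center, commutator_def, map_commutator, ← MonoidHom.range_eq_map]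
  rfl

theorem sq_mem {t : K} (ht : t ∈ C.sylow) : t * t ∈ C.invo := by
  obtain ⟨g, rfl⟩ := ht
  rw [← map_mul, e_mem_invo, mul_a, add_self (n := n)]

theorem sq_onto {v : K} (hv : v ∈ C.invo) : ∃ t ∈ C.sylow, t * t = v := by
  obtain ⟨g, ha, rfl⟩ := C.mem_invo_iff.1 hv
  obtain ⟨a, hnm⟩ := exists_nm_eq (fixed_of_a_eq_zero ha)
  obtain ⟨h, hh⟩ := exists_lift (F := F) (n := n) a
  refine ⟨C.e h, C.e_mem h, ?_⟩
  rw [← map_mul, sq_eq]
  exact congrArg C.e (Heis.ext ha.symm (show nm n h.a = g.b by rw [hh, hnm]))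

omit [Finite K] in
theorem exists_gen : ∃ γ : Fˣ, ∀ c : Fˣ, ∃ k : ℕ, γ ^ k = c := by
  obtain ⟨γ, hγ⟩ := IsCyclic.exists_monoid_generator (α := Fˣ)
  exact ⟨γ, fun c => hγ c⟩

theorem orderOf_gen {γ : Fˣ} (hγ : ∀ c : Fˣ, ∃ k : ℕ, γ ^ k = c) :
    orderOf γ = (2 ^ n) ^ 2 - 1 := by
  classical
  rw [orderOf_eq_card_of_forall_mem_zpowers fun c => by
    obtain ⟨k, hk⟩ := hγ c; exact hk ▸ pow_mem (mem_zpowers γ) k, Nat.card_eq_fintype_card,
    Fintype.card_units, hQ.card]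

theorem conj_cen_eq {x : K} {c : Fˣ} {k : Heis F n}
    (hact : ∀ g, x * C.e g * x⁻¹ = C.e (dil c (k * g * k⁻¹))) {g : Heis F n} (hg : g.a = 0) :
    x * C.e g * x⁻¹ = C.e (dil c g) := by
  rw [hact, conj_cen k g hg]

theorem singer : HasSinger C.sylow C.invo := by
  obtain ⟨γ, hγ⟩ := exists_gen (F := F) (n := n)
  have hpow : ∀ (k : ℕ) (g : Heis F n),
      C.tor γ ^ k * C.e g * (C.tor γ ^ k)⁻¹ = C.e (dil (γ ^ k) g) := fun k g => by
    rw [← map_pow, C.conj_tor]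
  refine ⟨C.tor γ, C.tor_mem γ, fun v hv => ?_, fun v hv w hw hv1 hw1 => ?_, fun φ hφ => ?_⟩
  · obtain ⟨g, ha, rfl⟩ := C.mem_invo_iff.1 hv
    rw [C.conj_tor, e_mem_invo, dil_a, ha, mul_zero]
  · obtain ⟨g, ha, rfl⟩ := C.mem_invo_iff.1 hv
    obtain ⟨h, hb, rfl⟩ := C.mem_invo_iff.1 hw
    have hg0 : g.b ≠ 0 := fun e => hv1 (by rw [show g = 1 from Heis.ext ha e, map_one])
    have hh0 : h.b ≠ 0 := fun e => hw1 (by rw [show h = 1 from Heis.ext hb e, map_one])
    obtain ⟨a, hnm⟩ := exists_nm_eq (n := n) (z := h.b / g.b) (by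
      rw [cj2, div_pow]
      exact congrArg₂ (· / ·) (fixed_of_a_eq_zero hb) (fixed_of_a_eq_zero ha))
    have ha0 : a ≠ 0 := fun e => div_ne_zero hh0 hg0 (by rw [← hnm, e, nm_eq_zero.2 rfl])
    obtain ⟨k, hk⟩ := hγ (Units.mk0 a ha0)
    refine ⟨k, ?_⟩
    rw [hpow, hk]
    exact congrArg C.e (Heis.ext (by rw [dil_a, ha, hb, mul_zero])
      (by rw [dil_b, Units.val_mk0, hnm, div_mul_cancel₀ _ hg0]))
  · have hφy : φ (C.tor γ) ∈ N(C.sylow) := by
      have hmap : C.sylow.map φ.toMonoidHom = C.sylow :=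
        eq_of_le_of_card_ge (by rintro _ ⟨t, ht, rfl⟩; exact hφ t ht)
          (le_of_eq (card_map_of_injective φ.injective).symm)
      have := mem_map_of_mem φ.toMonoidHom (C.tor_mem γ)
      rw [map_equiv_normalizer_eq, hmap] at this
      exact this
    obtain ⟨c, k, -, hact⟩ := C.exists_act hφy
    obtain ⟨i, hi⟩ := hγ c
    refine ⟨i, fun v hv => ?_⟩
    obtain ⟨g, ha, rfl⟩ := C.mem_invo_iff.1 hv
    rw [C.conj_cen_eq hact ha, hpow, hi]

theorem not_mem_subfield (hn : 2 ≤ n) {γ : Fˣ} (hγ : ∀ c : Fˣ, ∃ k : ℕ, γ ^ k = c) (r e : ℕ)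
    (hr : 2 ≤ r) (he : 2 ≤ e) (hre : r ^ e = Fintype.card F) :
    mu n (γ : F) ^ r ≠ mu n (γ : F) := by
  intro h
  have hγ0 := γ.ne_zero
  have hμ0 := mu_ne_zero (n := n) hγ0
  have hq4 : 4 ≤ 2 ^ n := le_trans (by norm_num) (Nat.pow_le_pow_right two_pos hn)
  have hrq : r ≤ 2 ^ n := by
    by_contra hlt
    have h1 : (2 ^ n) ^ 2 < r ^ 2 := Nat.pow_lt_pow_left (by omega) (by norm_num)
    have h2 : r ^ 2 ≤ r ^ e := Nat.pow_le_pow_right (by omega) he
    rw [hre, hQ.card] at h2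
    omega
  have h1 : mu n (γ : F) ^ (r - 1) = 1 := by
    refine mul_right_cancel₀ hμ0 ?_
    rw [← pow_succ, Nat.sub_add_cancel (by omega), h, one_mul]
  have h3 := cube_of_mu (pow_ne_zero (r - 1) hγ0) (n := n) (c := (γ : F) ^ (r - 1)) (by
    rw [← h1]
    simp only [mu, cj2, div_pow, mul_pow, ← pow_mul, mul_comm (2 ^ n)])
  have h4 : γ ^ (3 * (r - 1)) = 1 := Units.ext (by
    rw [Units.val_pow_eq_pow_val, Units.val_one, mul_comm, pow_mul]; exact h3.1)
  have h5 := Nat.le_of_dvd (by omega) (orderOf_dvd_of_pow_eq_one h4)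
  rw [orderOf_gen hγ] at h5
  have h6 : 2 ^ n * 4 ≤ (2 ^ n) ^ 2 := by rw [pow_two]; exact Nat.mul_le_mul_left _ hq4
  omega

theorem irred (hn : 2 ≤ n) (D : Subgroup K) (hVD : C.invo ≤ D) (hDT : D ≤ C.sylow)
    (hND : N(C.sylow) ≤ normalizer (D : Set K)) : D = C.invo ∨ D = C.sylow := by
  obtain ⟨γ, hγ⟩ := exists_gen (F := F) (n := n)
  by_cases hDV : D ≤ C.invo
  · exact Or.inl (le_antisymm hDV hVD)
  right
  obtain ⟨x, hxD, hxV⟩ := Set.not_subset.1 hDV
  obtain ⟨g₀, rfl⟩ := hDT hxD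
  let L : AddSubgroup F :=
    { carrier := {a | ∃ g : Heis F n, g.a = a ∧ C.e g ∈ D}
      zero_mem' := ⟨1, rfl, by rw [map_one]; exact one_mem D⟩
      add_mem' := by
        rintro _ _ ⟨g, rfl, hg⟩ ⟨h, rfl, hh⟩
        exact ⟨g * h, rfl, by rw [map_mul]; exact mul_mem hg hh⟩
      neg_mem' := by
        rintro _ ⟨g, rfl, hg⟩
        exact ⟨g⁻¹, by rw [inv_a]; linear_combination add_self (n := n) g.a,
          by rw [map_inv]; exact inv_mem hg⟩ }
  have htop : L = ⊤ := H52.SUThree.params_eq_top (a := g₀.a) (κ := mu n (γ : F))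
    (fun h => hxV (C.e_mem_invo.2 h)) ⟨g₀, rfl, hxD⟩ (by
      rintro _ ⟨g, rfl, hg⟩
      refine ⟨dil γ g, dil_a _ _, ?_⟩
      rw [← C.conj_tor]
      exact (mem_normalizer_iff.1 (hND (C.tor_mem γ)) _).1 hg)
    (H52.SUThree.subfield_eq_top (not_mem_subfield hn hγ))
  refine le_antisymm hDT ?_
  rintro _ ⟨g, rfl⟩
  obtain ⟨h, hha, hh⟩ : g.a ∈ L := htop ▸ AddSubgroup.mem_top _
  have h1 : C.e (h⁻¹ * g) ∈ D := hVD (C.e_mem_invo.2 (by
    rw [mul_a, inv_a, hha, add_self (n := n)]))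
  have := mul_mem hh h1
  rwa [← map_mul, mul_inv_cancel_left] at this

theorem commutators_onto {d : Heis F n} (hd : d.a ≠ 0) {z : Heis F n} (hz : z.a = 0) :
    ∃ t : Heis F n, t * d * t⁻¹ * d⁻¹ = z := by
  obtain ⟨b, hb⟩ := exists_tr_eq (fixed_of_a_eq_zero hz)
  obtain ⟨t, ht⟩ := exists_lift (F := F) (n := n) c[b / d.a]
  refine ⟨t, ?_⟩
  rw [commutatorElement_eq]
  exact Heis.ext hz.symm (show tr n (c[t.a] * d.a) = z.b by rw [ht, cj2_cj2, div_mul_cancel₀ _ hd, hb])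

theorem normal_sub (D : Subgroup K) (hD : D ≤ C.sylow) (hn : C.sylow ≤ normalizer (D : Set K)) :
    D ≤ C.invo ∨ C.invo ≤ D := by
  refine or_iff_not_imp_left.2 fun h => ?_
  obtain ⟨x, hxD, hxV⟩ := Set.not_subset.1 h
  obtain ⟨d, rfl⟩ := hD hxD
  intro v hv
  obtain ⟨z, hz, rfl⟩ := C.mem_invo_iff.1 hv
  obtain ⟨t, rfl⟩ := commutators_onto (fun h => hxV (C.e_mem_invo.2 h)) hz
  rw [map_mul, map_mul, map_mul, map_inv, map_inv]
  exact mul_mem ((mem_normalizer_iff.1 (hn (C.e_mem t)) _).1 hxD) (inv_mem hxD)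

theorem odd_trivial [IsSimpleGroup K] {x : K} (hx : x ∈ C.invo) (hx1 : x ≠ 1) :
    OddTrivialAt x := by
  obtain ⟨g, ha, rfl⟩ := C.mem_invo_iff.1 hx
  have hN := C.centralizer_invo_le ha (fun e => hx1 (by rw [e, map_one]))
  have hT : C.sylow ≤ centralizer ({C.e g} : Set K) := fun t ht =>
    mem_centralizer_singleton_iff.2 (mem_centralizer_iff.1 (C.le_centralizer_invo ht) _ hx).symm
  refine H21.Walter.oddTrivialAt_of_rigid C.center_eq_bot (fun X hX hodd hn => ?_)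
    fun φ hφ h => C.eq_one_of_fixes hφ fun t ht => h t (hT ht)
  rw [eq_bot_iff]
  intro y hy
  have hodd' : Odd (orderOf y) := hodd.of_dvd_nat (Subgroup.orderOf_dvd_natCard X hy)
  have hyC : y ∈ centralizer (C.sylow : Set K) := by
    refine mem_centralizer_iff.2 fun t ht => ?_
    have h1 : t * y * t⁻¹ * y⁻¹ ∈ X :=
      mul_mem ((mem_normalizer_iff.1 (hn (hT ht)) y).1 hy) (inv_mem hy)
    have h2 : t * y * t⁻¹ * y⁻¹ ∈ C.sylow := by
      rw [show t * y * t⁻¹ * y⁻¹ = t * (y * t⁻¹ * y⁻¹) by group]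
      exact mul_mem ht ((mem_normalizer_iff.1 (hN (hX hy)) _).1 (inv_mem ht))
    obtain ⟨k, hk⟩ := C.exists_pow h2
    have h3 := eq_one_of_odd_pow hk (hodd.of_dvd_nat (Subgroup.orderOf_dvd_natCard X h1))
      (pow_orderOf_eq_one _)
    rw [mul_inv_eq_one, mul_inv_eq_iff_eq_mul] at h3
    exact h3
  obtain ⟨k, hk⟩ := C.exists_pow (C.invo_le (C.centralizer_le hyC))
  exact mem_bot.2 (eq_one_of_odd_pow hk hodd' (pow_orderOf_eq_one _))

theorem isSolvable_normalizer : Group.IsSolvable ↥(N(C.sylow)) := by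
  set N := N(C.sylow)
  haveI hsT : Group.IsSolvable ↥C.sylow := by
    haveI := C.isPGroup.isNilpotent
    infer_instance
  haveI : (C.sylow.subgroupOf N).Normal := normal_in_normalizer
  let π := QuotientGroup.mk' (C.sylow.subgroupOf N)
  have hgen : ∀ x : N ⧸ C.sylow.subgroupOf N, ∃ c : Fˣ, π ⟨C.tor c, C.tor_mem c⟩ = x := by
    intro x
    obtain ⟨⟨y, hy⟩, rfl⟩ := QuotientGroup.mk'_surjective (C.sylow.subgroupOf N) x
    obtain ⟨c, k, hc, -⟩ := C.exists_act hy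
    refine ⟨c, (QuotientGroup.eq).2 ?_⟩
    rw [mem_subgroupOf]
    show (C.tor c)⁻¹ * y ∈ C.sylow
    rw [hc, inv_mul_cancel_left]
    exact C.e_mem k
  haveI : Group.IsSolvable (N ⧸ C.sylow.subgroupOf N) := Group.isSolvable_of_comm fun a b => by
    obtain ⟨c, rfl⟩ := hgen a
    obtain ⟨d, rfl⟩ := hgen b
    rw [← map_mul, ← map_mul]
    congr 1
    ext
    rw [coe_mul, coe_mul, ← map_mul, ← map_mul, mul_comm]
  let ε : C.sylow.subgroupOf N ≃* C.sylow := subgroupOfEquivOfLe le_normalizer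
  haveI : Group.IsSolvable ↥(C.sylow.subgroupOf N) :=
    Group.isSolvable_of_isSolvable_injective (f := ε.toMonoidHom) ε.injective
  exact Group.isSolvable_of_ker_le_range (C.sylow.subgroupOf N).subtype π
    (by rw [QuotientGroup.ker_mk', range_subtype])

include C in
theorem soluble {x : K} (hx : orderOf x = 2) :
    Group.IsSolvable ↥(centralizer ({x} : Set K)) := by
  have hp : IsPGroup 2 (zpowers x) :=
    IsPGroup.of_card (n := 1) (by rw [Nat.card_zpowers, hx, pow_one])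
  obtain ⟨Q, hQ'⟩ := hp.exists_le_sylow
  obtain ⟨P, hP⟩ : ∃ P : Sylow 2 K, (P : Subgroup K) = C.sylow := C.syl
  obtain ⟨g, rfl⟩ := MulAction.exists_smul_eq K P Q
  obtain ⟨v, hv, hgv⟩ := hQ' (mem_zpowers x)
  change g * v * g⁻¹ = x at hgv
  rw [hP] at hv
  obtain ⟨h, rfl⟩ := hv
  have hh : h * h = 1 := C.inj (by
    have h2 : x * x = 1 := by rw [← pow_two, ← hx, pow_orderOf_eq_one]
    rw [← hgv] at h2
    rw [map_mul, map_one]
    calc C.e h * C.e h = g⁻¹ * (g * C.e h * g⁻¹ * (g * C.e h * g⁻¹)) * g := by group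
      _ = 1 := by rw [h2]; group)
  have hle : (centralizer ({x} : Set K)).map (MulAut.conj g⁻¹).toMonoidHom ≤ N(C.sylow) := by
    rintro _ ⟨y, hy, rfl⟩
    refine C.centralizer_invo_le (H33.SylU.mul_self_eq_one_iff.1 hh) (fun e => ?_)
      (mem_centralizer_singleton_iff.2 ?_)
    · rw [e, map_one, mul_one, mul_inv_cancel] at hgv
      rw [← hgv, orderOf_one] at hx
      exact absurd hx (by norm_num)
    · show g⁻¹ * y * g⁻¹⁻¹ * C.e h = C.e h * (g⁻¹ * y * g⁻¹⁻¹)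
      have hc := mem_centralizer_singleton_iff.1 hy
      rw [← hgv] at hc
      calc g⁻¹ * y * g⁻¹⁻¹ * C.e h = g⁻¹ * (y * (g * C.e h * g⁻¹)) * g := by group
        _ = C.e h * (g⁻¹ * y * g⁻¹⁻¹) := by rw [hc]; group
  haveI := C.isSolvable_normalizer
  refine Group.isSolvable_of_isSolvable_injective
    (f := (Subgroup.inclusion hle).comp ((MulAut.conj g⁻¹).subgroupMap _).toMonoidHom) ?_
  exact (Subgroup.inclusion_injective hle).comp (MulEquiv.injective _)

theorem inner {φ : MulAut K} (hφ : ∃ j : ℕ, φ ^ 2 ^ j = 1)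
    (hT : ∀ t ∈ C.sylow, φ t * t⁻¹ ∈ C.invo) : ∃ t ∈ C.sylow, φ = MulAut.conj t := by
  have hmap : C.sylow.map φ.toMonoidHom = C.sylow := by
    refine eq_of_le_of_card_ge ?_ (le_of_eq (card_map_of_injective φ.injective).symm)
    rintro _ ⟨t, ht, rfl⟩
    have := mul_mem (C.invo_le (hT t ht)) ht
    rwa [inv_mul_cancel_right] at this
  have hφe : ∀ g, ∃ g', φ (C.e g) = C.e g' ∧ g'.a = g.a := fun g => by
    obtain ⟨g', hg'⟩ : φ (C.e g) ∈ C.sylow := hmap ▸ mem_map_of_mem φ.toMonoidHom (C.e_mem g)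
    exact ⟨g', hg'.symm, C.a_eq_of_mod (by rw [hg']; exact hT _ (C.e_mem g))⟩
  have key : ∀ x ∈ N(C.sylow), φ x * x⁻¹ ∈ C.sylow := by
    intro x hx
    have hφx : φ x ∈ N(C.sylow) := by
      have := mem_map_of_mem φ.toMonoidHom hx
      rwa [map_equiv_normalizer_eq, hmap] at this
    obtain ⟨c, k, hxe, hact⟩ := C.exists_act hx
    obtain ⟨c', k', hxe', hact'⟩ := C.exists_act hφx
    obtain ⟨g, hg⟩ := exists_lift (F := F) (n := n) 1
    obtain ⟨g', hg', hga⟩ := hφe g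
    obtain ⟨g'', hg'', hga'⟩ := hφe (dil c (k * g * k⁻¹))
    have h1 := hact' g'
    rw [← hg', ← map_inv, ← map_mul, ← map_mul, hact, hg''] at h1
    have h2 := congrArg Heis.a (C.inj h1)
    rw [hga', dil_a, dil_a, conj_a, conj_a, hga, hg, mul_one, mul_one] at h2
    have hcc : mu n ((c' * c⁻¹ : Fˣ) : F) = 1 := by
      rw [Units.val_mul, mu_mul, ← h2, ← mu_mul, ← Units.val_mul, mul_inv_cancel, Units.val_one,
        mu_one]
    have e : φ x * x⁻¹ = C.tor c' * (C.e k' * (C.e k)⁻¹) * (C.tor c)⁻¹ := by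
      rw [hxe', hxe]; group
    rw [e, ← map_inv, ← map_mul,
      show C.tor c' * C.e (k' * k⁻¹) * (C.tor c)⁻¹ =
        C.tor c' * C.e (k' * k⁻¹) * (C.tor c')⁻¹ * C.tor (c' * c⁻¹) by
        simp only [map_mul, map_inv]; group,
      C.tor_triv _ hcc, mul_one, C.conj_tor]
    exact C.e_mem _
  obtain ⟨g, rfl⟩ := C.inn φ hφ hmap key
  refine ⟨g, C.mem_of_triv (mem_normalizer_iff_map_conj_eq.2 hmap) fun h => ?_, rfl⟩
  obtain ⟨h', he, ha⟩ := hφe h
  exact ⟨h', he, ha⟩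

theorem small_comm (P : Subgroup (MulAut K)) (H : Subgroup K) (hP : IsPGroup 2 P)
    (hH : H ≤ C.invo) (hne : H ≠ C.invo)
    (hT : ∀ φ ∈ P, ∀ t ∈ C.sylow, φ t * t⁻¹ ∈ H) : IsMulCommutative ↥P := by
  have key : ∀ φ ∈ P, ∃ v ∈ C.invo, φ = MulAut.conj v := by
    intro φ hφ
    obtain ⟨j, hj⟩ := hP ⟨φ, hφ⟩
    obtain ⟨t, ht, rfl⟩ := C.inner ⟨j, congrArg Subtype.val hj⟩ fun t ht => hH (hT φ hφ t ht)
    obtain ⟨d, rfl⟩ := ht
    refine ⟨C.e d, C.e_mem_invo.2 ?_, rfl⟩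
    by_contra hd
    refine hne (le_antisymm hH fun v hv => ?_)
    obtain ⟨z, hz, rfl⟩ := C.mem_invo_iff.1 hv
    obtain ⟨t, rfl⟩ := commutators_onto hd hz
    have h1 := inv_mem (hT _ hφ _ (C.e_mem t))
    simp only [MulAut.conj_apply] at h1
    rw [show (C.e d * C.e t * (C.e d)⁻¹ * (C.e t)⁻¹)⁻¹ = C.e t * C.e d * (C.e t)⁻¹ * (C.e d)⁻¹ by
      group] at h1
    simpa only [map_mul, map_inv] using h1
  refine ⟨⟨fun a b => Subtype.ext ?_⟩⟩
  obtain ⟨v, hv, hva⟩ := key a.1 a.2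
  obtain ⟨w, hw, hwb⟩ := key b.1 b.2
  rw [coe_mul, coe_mul, hva, hwb, ← map_mul, ← map_mul,
    (mem_centralizer_iff.1 (C.le_centralizer_invo (C.invo_le hw)) v hv)]

theorem rigid {φ : MulAut K} (hφ : ∃ j : ℕ, φ ^ 2 ^ j = 1) (hV : ∀ v ∈ C.invo, φ v = v)
    {v : K} (hv : v ∈ C.invo) (hv1 : v ≠ 1) {y : K} (hy : Commute y v) (hodd : Odd (orderOf y))
    (hy1 : y ≠ 1) (hfix : φ y = y) : ∀ t ∈ C.sylow, φ t * t⁻¹ ∈ C.invo := by
  classical
  obtain ⟨g₀, hg₀, rfl⟩ := C.mem_invo_iff.1 hv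
  have hg₁ : g₀ ≠ 1 := fun e => hv1 (by rw [e, map_one])
  obtain ⟨j, hj⟩ := hφ
  have hmem : ∀ t ∈ C.sylow, φ t ∈ C.sylow := by
    intro t ht
    have hc : φ t * C.e g₀ = C.e g₀ * φ t := by
      conv_lhs => rw [← hV _ hv]
      conv_rhs => rw [← hV _ hv]
      rw [← map_mul, ← map_mul, ← mem_centralizer_iff.1 (C.le_centralizer_invo ht) _ hv]
    obtain ⟨i, hi⟩ := C.exists_pow ht
    exact C.mem_of_two_pow (C.cent g₀ hg₀ hg₁ _ hc) (k := i) (by rw [← map_pow, hi, map_one])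
  have hmap : C.sylow.map φ.toMonoidHom = C.sylow :=
    eq_of_le_of_card_ge (by rintro _ ⟨t, ht, rfl⟩; exact hmem t ht)
      (le_of_eq (card_map_of_injective φ.injective).symm)
  -- the induced automorphism of the model
  let E := MonoidHom.ofInjective C.inj
  let α : MulAut (Heis F n) :=
    E.trans (((φ.subgroupMap C.sylow).trans (MulEquiv.subgroupCongr hmap)).trans E.symm)
  have hα : ∀ g, C.e (α g) = φ (C.e g) := fun g => by
    rw [← MonoidHom.ofInjective_apply C.inj (x := α g)]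
    show ((E (E.symm _) : C.e.range) : K) = φ (C.e g)
    exact congrArg Subtype.val (E.apply_symm_apply _)
  have hαk : ∀ (k : ℕ) (g : Heis F n), C.e ((α ^ k) g) = (φ ^ k) (C.e g) := by
    intro k
    induction k with
    | zero => intro g; simp
    | succ k ih => intro g; rw [pow_succ, MulAut.mul_apply, ih, hα, pow_succ φ, MulAut.mul_apply]
  have hαj : α ^ 2 ^ j = 1 := MulEquiv.ext fun g => C.inj (by
    rw [hαk, hj, MulAut.one_apply, MulAut.one_apply])
  set l := amap α 1 with hl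
  set τ := tau α
  have hbm : ∀ z : Fix F n, bmap α z = z.1 := fun z => by
    have e : α (cen z) = cen z := C.inj (by
      rw [hα, hV _ (C.e_mem_invo.2 (cen_a z))])
    rw [bmap, e, cen_b]
  have hbz : ∀ z : F, c[z] = z → nm n l * τ z = z := fun z hz => by
    rw [← bmap_eq (tau_spec α) ⟨z, hz⟩, hbm]
  have hl1 : nm n l = 1 := by simpa using hbz 1 cj2_one
  have hτfix : ∀ z : F, c[z] = z → τ z = z := fun z hz => by simpa [hl1] using hbz z hz
  have hτx : ∀ x : F, τ x = x ∨ τ x = c[x] := fun x => by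
    have e : τ x * τ x + tr n x * τ x + nm n x = 0 := by
      have h0 : x * x + tr n x * x + nm n x = 0 := by
        rw [tr, nm]
        linear_combination add_self (n := n) (x * x) + add_self (n := n) (x * c[x])
      have := congrArg τ h0
      rwa [map_add, map_add, map_mul, map_mul, map_zero, hτfix _ (tr_fixed x),
        hτfix _ (nm_fixed x)] at this
    rw [tr, nm] at e
    have h2 : (τ x - x) * (τ x - c[x]) = 0 := by
      linear_combination e - add_self (n := n) ((x + c[x]) * τ x)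
    rcases mul_eq_zero.1 h2 with h | h
    · exact Or.inl (sub_eq_zero.1 h)
    · exact Or.inr (sub_eq_zero.1 h)
  have hτ2 : τ * τ = 1 := RingEquiv.ext fun x => by
    show τ (τ x) = x
    rcases hτx x with h | h
    · rw [h, h]
    · rw [h, ringEquiv_cj2, h, cj2_cj2]
  rcases ringEquiv_sq hτ2 with h | h
  · -- no field part
    have hl' : l = 1 := lam_eq_one_of_two_power h hαj
    rintro _ ⟨g, rfl⟩
    rw [← hα]
    refine C.mod_of_a_eq ?_
    rw [amap_spec, tau_spec, ← hl, hl', one_mul]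
    exact congrArg (fun σ : F ≃+* F => σ g.a) h
  · -- the field part inverts the norm-one torus
    exfalso
    have hyN : y ∈ N(C.sylow) := C.cent g₀ hg₀ hg₁ y hy.eq
    obtain ⟨c, k, hye, hact⟩ := C.exists_act hyN
    have hnmc : nm n (c : F) = 1 := by
      have h1 := C.conj_cen_eq hact hg₀
      rw [hy.eq, mul_inv_cancel_right] at h1
      have h2 := congrArg Heis.b (C.inj h1)
      rw [dil_b] at h2
      exact mul_right_cancel₀ (fun e => hg₁ (Heis.ext hg₀ e)) (by rw [one_mul]; exact h2.symm)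
    have hμ : mu n (c : F) ≠ 1 := fun hm => hy1 (by
      obtain ⟨i, hi⟩ := C.exists_pow (C.mem_of_mu hye hm)
      exact eq_one_of_odd_pow hi hodd (pow_orderOf_eq_one y))
    obtain ⟨g, hg⟩ := exists_lift (F := F) (n := n) 1
    have h1 := congrArg φ (hact g)
    rw [map_mul, map_mul, map_inv, hfix, ← hα, ← hα, hact] at h1
    have h2 := congrArg Heis.a (C.inj h1)
    rw [dil_a, conj_a, amap_spec, amap_spec, dil_a, conj_a, hg, mul_one,
      tau_spec α (mu n (c : F)), tau_spec α 1, map_one, mul_one, ← hl] at h2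
    have hl0 : l ≠ 0 := lam_ne_zero α
    have h3 : τ (mu n (c : F)) = mu n (c : F) :=
      mul_left_cancel₀ hl0 (by rw [← h2, mul_comm])
    have h4 : c[mu n (c : F)] = mu n (c : F) := by
      rw [← frobQ_apply, ← h]; exact h3
    have h5 : nm n (mu n (c : F)) = 1 := by rw [nm_mu c.ne_zero, hnmc]
    rw [nm, h4] at h5
    exact hμ (eq_one_of_pow_two_pow (n := n) (k := 1) (by rw [pow_one, sq, h5]))

theorem notwist (hn : 2 ≤ n) : ∃ y ∈ N(C.sylow), Odd (orderOf y) ∧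
    (∀ v ∈ C.invo, Commute y v) ∧ ⁅C.sylow, zpowers y⁆ ⊔ C.invo = C.sylow := by
  classical
  obtain ⟨γ, hγ⟩ := exists_gen (F := F) (n := n)
  have hq4 : 4 ≤ 2 ^ n := le_trans (by norm_num) (Nat.pow_le_pow_right two_pos hn)
  set c : Fˣ := γ ^ (2 ^ n - 1) with hc
  have hsq : (2 ^ n) ^ 2 - 1 = (2 ^ n - 1) * (2 ^ n + 1) := by
    rw [show (1 : ℕ) = 1 ^ 2 by norm_num, Nat.sq_sub_sq, mul_comm]
    norm_num
  have hcord : orderOf c = 2 ^ n + 1 := by
    rw [hc, orderOf_pow, orderOf_gen hγ, hsq, Nat.gcd_mul_right_left,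
      Nat.mul_div_cancel_left _ (by omega)]
  have hcpow : (c : F) ^ (2 ^ n + 1) = 1 := by
    rw [← Units.val_pow_eq_pow_val, ← hcord, pow_orderOf_eq_one, Units.val_one]
  have hnm : nm n (c : F) = 1 := by rw [nm, cj2, ← pow_succ', hcpow]
  have hμ : mu n (c : F) ≠ 1 := fun h => by
    have h3 : c ^ 3 = 1 := Units.ext (by
      rw [Units.val_pow_eq_pow_val]; exact (cube_of_mu c.ne_zero h).1)
    have := Nat.le_of_dvd (by norm_num) (orderOf_dvd_of_pow_eq_one h3)
    omega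
  refine ⟨C.tor c, C.tor_mem c, ?_, fun v hv => ?_, le_antisymm (sup_le ?_ C.invo_le) ?_⟩
  · refine Odd.of_dvd_nat ?_ (orderOf_map_dvd C.tor c)
    rw [hcord]
    exact (Nat.even_pow.2 ⟨even_two, by omega⟩).add_one
  · obtain ⟨g, ha, rfl⟩ := C.mem_invo_iff.1 hv
    have h1 : dil c g = g := Heis.ext (by rw [dil_a, ha, mul_zero])
      (by rw [dil_b, hnm, one_mul])
    have h2 := C.conj_tor c g
    rw [h1, mul_inv_eq_iff_eq_mul] at h2
    exact h2
  · rw [commutator_le]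
    intro t ht z hz
    rw [commutatorElement_def, show t * z * t⁻¹ * z⁻¹ = t * (z * t⁻¹ * z⁻¹) by group]
    exact mul_mem ht ((mem_normalizer_iff.1 (zpowers_le.2 (C.tor_mem c) hz) _).1 (inv_mem ht))
  · rintro _ ⟨g, rfl⟩
    have hμ1 : mu n (c : F) + 1 ≠ 0 := fun h => hμ (by linear_combination h - add_self (n := n) (1 : F))
    obtain ⟨g', hg'⟩ := exists_lift (F := F) (n := n) (g.a / (mu n (c : F) + 1))
    have hk : C.e g' * C.tor c * (C.e g')⁻¹ * (C.tor c)⁻¹ = C.e (g' * dil c g'⁻¹) := by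
      rw [map_mul, ← C.conj_tor, map_inv]; group
    have h1 : C.e (g' * dil c g'⁻¹) ∈ ⁅C.sylow, zpowers (C.tor c)⁆ := by
      rw [← hk, ← commutatorElement_def]
      exact commutator_mem_commutator (C.e_mem g') (mem_zpowers _)
    set d := g' * dil c g'⁻¹
    have h2 : C.e (d⁻¹ * g) ∈ C.invo := by
      rw [e_mem_invo, mul_a, inv_a, mul_a, dil_a, inv_a, hg']
      field_simp
      linear_combination add_self (n := n) g.a + add_self (n := n) (g.a * mu n (c : F))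
    have := mul_mem_sup h1 h2
    rwa [← map_mul, mul_inv_cancel_left] at this

theorem nData [IsSimpleGroup K] (hn : 2 ≤ n) : NData C.sylow C.invo where
  mem_iff := C.mem_iff
  four := by
    rw [C.card_invo]
    exact le_trans (by norm_num) (Nat.pow_le_pow_right two_pos hn)
  central := fun v hv => mem_centralizer_iff.2 fun t ht =>
    (mem_centralizer_iff.1 (C.le_centralizer_invo ht) v hv).symm
  comm := C.commutator_eq
  sq_mem _ := C.sq_mem
  sq_onto _ := C.sq_onto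
  singer := C.singer
  irred := C.irred hn
  normal_sub := C.normal_sub
  odd_trivial _ := C.odd_trivial
  soluble _ := C.soluble
  inner _ hφ _ hT := C.inner hφ hT
  small_comm P H hP hH hne _ hT := C.small_comm P H hP hH hne hT
  rigid _ hφ hV _ hv hv1 _ hy hodd hy1 hfix := C.rigid hφ hV hv hv1 hy hodd hy1 hfix
  notwist := Or.inl (C.notwist hn)

end Coord

omit hQ in
/-- **The facts about `PSU₃(2ⁿ)`.** -/
theorem nData_unitary {K : Type u} [Group K] [Finite K] [IsSimpleGroup K] {F : Type} [Field F]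
    [Fintype F] {n : ℕ} (hn : 2 ≤ n) (hF : Fintype.card F = (2 ^ n) ^ 2)
    (ι : K ≃* Cfsg.PSU 3 F (2 ^ n)) (T : Sylow 2 K) :
    ∃ V : Subgroup K, NData (T : Subgroup K) V := by
  haveI : QField F n := ⟨hF⟩
  obtain ⟨C, hC⟩ := exists_coord hn ι T
  exact ⟨C.invo, hC ▸ C.nData hn⟩

omit hQ in
/-- A quasisimple group with trivial odd core over `PSU₃(2ⁿ)` has trivial centre. -/
theorem cover_unitary {L : Type u} [Group L] [Finite L] (hL : Cfsg.IsQuasisimple L)
    (hO : Cfsg.oddCore L = ⊥) {F : Type} [Field F] [Fintype F] {n : ℕ} (hn : 2 ≤ n)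
    (hF : Fintype.card F = (2 ^ n) ^ 2) (ι : L ⧸ center L ≃* Cfsg.PSU 3 F (2 ^ n)) :
    center L = ⊥ := by
  haveI := hL.1
  have hodd := (H58.CI.psu_cover hn (by
    rw [hF, show (4 : ℕ) = 2 ^ 2 by norm_num, ← pow_mul, ← pow_mul, mul_comm]) ι).1
  rw [eq_bot_iff, ← hO]
  exact le_sSup ⟨inferInstance, Nat.coprime_two_left.2 hodd |>.symm⟩

end Cfsg.Agent.H76.WA
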