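import Cfsg.Agent.H33.SylU.Count
import Cfsg.Agent.H76.PostBender.Trans
import Cfsg.Agent.H67.RankOneFix.SUThree
import Cfsg.Agent.H74.CycInt.Unitary

/-!
# Coordinates on a Sylow 2-subgroup of `PSU₃(2ⁿ)` and on its normaliser

The Sylow subgroup is the Heisenberg model, the normaliser is the product with the image of the torus
`c ↦ diag (c, c̄ / c, c̄⁻¹)`, which multiplies the first coordinate by `c̄ ² / c` and the second by `c c̄`.
-/

set_option autoImplicit false
set_option linter.unusedSectionVars false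
set_option linter.style.haveILetI false

namespace Cfsg.Agent.H76.WA

open Matrix hiding vec
open Subgroup
open Cfsg.Agent.Unitary Cfsg.Agent.H52.SUThree Cfsg.Agent.H67.RankOneFix Cfsg.Agent.H33.SylU
open Cfsg.Agent.H76.PostBender

universe u

variable {F : Type} [Field F] [Fintype F] {n : ℕ} [hQ : QField F n]

local notation "c[" x "]" => cj2 n x

/-- The scalar by which the torus element acts on first coordinates. -/
def mu (n : ℕ) (c : F) : F :=
  cj2 n c * cj2 n c / c

include hQ

theorem mu_mul (c d : F) : mu n (c * d) = mu n c * mu n d := by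
  simp only [mu, cj2_mul]
  rw [div_mul_div_comm]
  ring

theorem mu_one : mu n (1 : F) = 1 := by simp [mu]

theorem nm_mu {c : F} (hc : c ≠ 0) : nm n (mu n c) = nm n c := by
  have hcc : c[c] ≠ 0 := cj2_eq_zero.not.2 hc
  have e : c[mu n c] = c * c / c[c] := by
    simp only [mu, cj2, div_pow, mul_pow]
    rw [show (c ^ 2 ^ n) ^ 2 ^ n = c from pow_q_q hQ.card c]
  rw [nm, e, nm, mu]
  field_simp

theorem mu_ne_zero {c : F} (hc : c ≠ 0) : mu n c ≠ 0 := by
  have := (cj2_eq_zero (n := n)).not.2 hc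
  simp [mu, hc, this]

theorem cube_of_mu {c : F} (hc : c ≠ 0) (h : mu n c = 1) : c ^ 3 = 1 ∧ c[c] = c * c := by
  rw [mu, div_eq_one_iff_eq hc] at h
  have h2 : c[c] = c * c := by
    have := congrArg (cj2 n) h
    rw [cj2_mul, cj2_cj2] at this
    exact this.symm
  refine ⟨?_, h2⟩
  rw [h2] at h
  exact mul_right_cancel₀ hc (by rw [one_mul]; linear_combination h)

theorem nm_mul (x y : F) : nm n (x * y) = nm n x * nm n y := by
  simp only [nm, cj2_mul]; ring

/-- The action of the torus on the model. -/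
def dil (c : Fˣ) (g : Heis F n) : Heis F n :=
  ⟨mu n (c : F) * g.a, nm n (c : F) * g.b, by
    rw [tr_fix_mul (nm_fixed _), g.cond, nm_mul, nm_mu c.ne_zero]⟩

theorem dil_a (c : Fˣ) (g : Heis F n) : (dil c g).a = mu n (c : F) * g.a := rfl

theorem dil_b (c : Fˣ) (g : Heis F n) : (dil c g).b = nm n (c : F) * g.b := rfl

omit hQ

/-- Coordinates on a Sylow 2-subgroup and its normaliser. -/
structure Coord (K : Type u) [Group K] (F : Type) [Field F] [Fintype F] (n : ℕ) [QField F n] where
  /-- the embedding of the model -/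
  e : Heis F n →* K
  inj : Function.Injective e
  /-- the torus -/
  tor : Fˣ →* K
  conj_tor : ∀ (c : Fˣ) (g : Heis F n), tor c * e g * (tor c)⁻¹ = e (dil c g)
  tor_triv : ∀ c : Fˣ, mu n (c : F) = 1 → tor c = 1
  norm : ∀ x ∈ normalizer (e.range : Set K), ∃ (c : Fˣ) (g : Heis F n), x = tor c * e g
  cent : ∀ g : Heis F n, g.a = 0 → g ≠ 1 → ∀ x : K, x * e g = e g * x →
    x ∈ normalizer (e.range : Set K)
  syl : ∃ P : Sylow 2 K, (P : Subgroup K) = e.range
  trans : SylTrans 2 K
  inn : ∀ φ : MulAut K, (∃ j : ℕ, φ ^ 2 ^ j = 1) → e.range.map φ.toMonoidHom = e.range →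
    (∀ x ∈ normalizer (e.range : Set K), φ x * x⁻¹ ∈ e.range) → ∃ g : K, φ = MulAut.conj g

section SU

include hQ

variable {u w f : Fin 3 → F}

local notation "SUG" => Cfsg.SU 3 F (2 ^ n)

theorem ok_heis (g : Heis F n) : Ok (2 ^ n) g.a g.b := by
  have h := g.cond
  rw [tr, nm, cj2, cj2] at h
  rw [Ok, h, add_self (n := n)]

theorem cond_of_ok {b β : F} (h : Ok (2 ^ n) b β) : tr n β = nm n b := by
  rw [Ok] at h
  rw [tr, nm, cj2, cj2]
  linear_combination h - add_self (n := n) (b * b ^ 2 ^ n)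

/-- The embedding in a frame. -/
noncomputable def emb (hfr : Frame (2 ^ n) u w f) : Heis F n →* SUG :=
  MonoidHom.mk' (fun g => eSU hQ.card ((ok_heis g).spec hfr)) fun g h => by
    rw [E_mul hQ.card hfr (ok_heis g) (ok_heis h)]
    refine E_congr hQ.card hfr (ok_heis (g * h)) ((ok_heis g).add hQ.card (ok_heis h)) rfl ?_
    rw [mul_b, cj2]
    linear_combination add_self (n := n) (g.a ^ 2 ^ n * h.a)

theorem ap_emb (hfr : Frame (2 ^ n) u w f) (g : Heis F n) (p r s : F) :
    ap (emb hfr g) (vec u w f p r s) = vec u w f (p - c[g.a] * r + g.b * s) (r + g.a * s) s :=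
  ap_E hQ.card hfr (ok_heis g) p r s

theorem emb_fixes (hfr : Frame (2 ^ n) u w f) (g : Heis F n) : ap (emb hfr g) u = u :=
  E_fixes hQ.card hfr (ok_heis g)

theorem exists_emb_of_fix (hfr : Frame (2 ^ n) u w f) {A : SUG} (hA : ap A u = u) :
    ∃ g, emb hfr g = A := by
  obtain ⟨b, β, h, rfl⟩ := eq_E_of_fix hQ.card hfr hA
  exact ⟨⟨b, β, cond_of_ok h⟩, E_congr hQ.card hfr (ok_heis _) h rfl rfl⟩

theorem exists_torus (hfr : Frame (2 ^ n) u w f) (c : Fˣ) :
    ∃ A : SUG, ∀ p r s, ap A (vec u w f p r s) =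
      vec u w f ((c : F) * p) (c[(c : F)] / c * r) (s / c[(c : F)]) := by
  have hcc : c[(c : F)] ≠ 0 := cj2_eq_zero.not.2 c.ne_zero
  have hc := c.ne_zero
  obtain ⟨A, hA⟩ := exists_map hQ.card hfr (Matrix.diagonal ![(c : F), c[(c : F)] / c, (c[(c : F)])⁻¹])
    (by rw [det_diagonal, Fin.prod_univ_three]; simp; field_simp)
    (fun x y => by
      have e2 : (c[(c : F)]) ^ 2 ^ n = (c : F) := cj2_cj2 _
      simp only [Matrix.mulVec_diagonal, Matrix.cons_val_zero, Matrix.cons_val_one, Matrix.cons_val_two,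
        Matrix.tail_cons, Matrix.head_cons, mul_pow, div_pow, inv_pow, e2]
      rw [show (c : F) ^ 2 ^ n = c[(c : F)] from rfl]
      field_simp)
  refine ⟨A, fun p r s => ?_⟩
  rw [hA]
  congr 1 <;> simp [Matrix.mulVec_diagonal, div_eq_mul_inv, mul_comm]

/-- The torus in a frame. -/
noncomputable def torSU (hfr : Frame (2 ^ n) u w f) : Fˣ →* SUG :=
  MonoidHom.mk' (fun c => (exists_torus hfr c).choose) fun c d => eq_of_ap hfr fun p r s => by
    rw [ap_mul, (exists_torus hfr (c * d)).choose_spec, (exists_torus hfr d).choose_spec,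
      (exists_torus hfr c).choose_spec, Units.val_mul, cj2_mul]
    congr 1
    · ring
    · field_simp
    · field_simp

theorem ap_torSU (hfr : Frame (2 ^ n) u w f) (c : Fˣ) (p r s : F) :
    ap (torSU hfr c) (vec u w f p r s) =
      vec u w f ((c : F) * p) (c[(c : F)] / c * r) (s / c[(c : F)]) :=
  (exists_torus hfr c).choose_spec p r s

theorem torSU_u (hfr : Frame (2 ^ n) u w f) (c : Fˣ) : ap (torSU hfr c) u = (c : F) • u := by
  have h := ap_torSU hfr c 1 0 0
  rw [fr_u] at h
  rw [h]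
  simp [vec]

theorem torSU_mul_emb (hfr : Frame (2 ^ n) u w f) (c : Fˣ) (g : Heis F n) :
    torSU hfr c * emb hfr g = emb hfr (dil c g) * torSU hfr c := by
  refine eq_of_ap hfr fun p r s => ?_
  have hcc : c[(c : F)] ≠ 0 := cj2_eq_zero.not.2 c.ne_zero
  have hc := c.ne_zero
  have e : c[mu n (c : F) * g.a] = (c : F) * c / c[(c : F)] * c[g.a] := by
    rw [cj2_mul]
    congr 1
    simp only [mu, cj2, div_pow, mul_pow]
    rw [show ((c : F) ^ 2 ^ n) ^ 2 ^ n = c from pow_q_q hQ.card _]
  rw [ap_mul, ap_mul, ap_emb, ap_torSU, ap_torSU, ap_emb, dil_a, dil_b, e, mu, nm]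
  congr 1
  · field_simp
  · field_simp

theorem torSU_center (hfr : Frame (2 ^ n) u w f) {c : Fˣ} (h : mu n (c : F) = 1) :
    torSU hfr c ∈ center SUG := by
  obtain ⟨h3, h2⟩ := cube_of_mu c.ne_zero h
  refine smul_mem_center (l := (c : F)) fun x => ?_
  rw [hfr.expand x, ap_torSU, h2]
  have hc := c.ne_zero
  simp only [vec, smul_add, smul_smul]
  congr 2
  · congr 1; field_simp
  · field_simp
    linear_combination (-hermForm 3 F (2 ^ n) x u) * h3

theorem exists_eq_of_line (hfr : Frame (2 ^ n) u w f) {A : SUG} {c : F} (hc : ap A u = c • u) :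
    ∃ (d : Fˣ) (g : Heis F n), A = torSU hfr d * emb hfr g := by
  have hu0 : u ≠ 0 := fun h => by
    have := hfr.uf; rw [h, herm_zero_left] at this; exact zero_ne_one this
  have hc0 : c ≠ 0 := fun h => hu0 (ap_injective A (by rw [hc, h, zero_smul, ap_zero]))
  have h1 : ap ((torSU hfr (Units.mk0 c hc0))⁻¹ * A) u = u := by
    have h0 := torSU_u hfr (Units.mk0 c hc0)
    rw [Units.val_mk0] at h0
    rw [ap_mul, hc, ← h0, ap_inv_ap]
  obtain ⟨g, hg⟩ := exists_emb_of_fix hfr h1
  exact ⟨Units.mk0 c hc0, g, by rw [hg, mul_inv_cancel_left]⟩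

end SU

include hQ

/-- Every Sylow 2-subgroup of a group isomorphic to `PSU₃(2ⁿ)`, `n ≥ 2`, has coordinates. -/
theorem exists_coord (hn : 2 ≤ n) {K : Type u} [Group K] [Finite K]
    (ι : K ≃* Cfsg.PSU 3 F (2 ^ n)) (T : Sylow 2 K) :
    ∃ C : Coord K F n, (T : Subgroup K) = C.e.range := by
  classical
  haveI : Fact (Nat.Prime 2) := ⟨Nat.prime_two⟩
  haveI : CharP F 2 := charTwo (F := F) (n := n)
  have hF : Fintype.card F = (2 ^ n) ^ 2 := hQ.card
  set π : Cfsg.SU 3 F (2 ^ n) →* K := ι.symm.toMonoidHom.comp toPSU with hπ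
  have hsurj : Function.Surjective π := ι.symm.surjective.comp toPSU_surjective
  have hker : ∀ A, π A = 1 ↔ A ∈ center (Cfsg.SU 3 F (2 ^ n)) := fun A => by
    rw [← ker_toPSU, MonoidHom.mem_ker, hπ, MonoidHom.comp_apply, MulEquiv.coe_toMonoidHom,
      map_eq_one_iff ι.symm ι.symm.injective]
  have hscal : ∀ A B, π A = π B → ∃ l : F, ∀ x, ap A x = l • ap B x := by
    intro A B h
    obtain ⟨l, hl⟩ := eq_smul_of_mem_center hF (by norm_num)
      ((hker (B⁻¹ * A)).1 (by rw [map_mul, map_inv, h, inv_mul_cancel]))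
    exact ⟨l, fun x => by rw [← ap_smul, ← hl, ← ap_mul, mul_inv_cancel_left]⟩
  obtain ⟨U, hU⟩ := Sylow.mapSurjective_surjective hsurj 2 T
  obtain ⟨a, ⟨ha0, haa⟩, ha⟩ := (suGeom 2 hF).cover U
  obtain ⟨w, f, hfr⟩ := exists_frame_at hF ha0 haa
  have hUr : (U : Subgroup (Cfsg.SU 3 F (2 ^ n))) = (emb hfr).range := by
    ext A
    rw [MonoidHom.mem_range]
    exact ⟨fun h => exists_emb_of_fix hfr ((ha A).1 h),
      by rintro ⟨g, rfl⟩; exact (ha _).2 (emb_fixes hfr g)⟩
  have hr : (π.comp (emb hfr)).range = (T : Subgroup K) := by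
    rw [← hU, Sylow.coe_mapSurjective, hUr, MonoidHom.range_comp]
  -- membership in the normaliser
  have hline : ∀ (A : Cfsg.SU 3 F (2 ^ n)) (c : F), ap A a = c • a → π A ∈ normalizer ((T : Subgroup K) : Set K) := by
    intro A c hA
    obtain ⟨d, g, rfl⟩ := exists_eq_of_line hfr hA
    rw [map_mul, ← hr]
    refine mul_mem ?_ (le_normalizer ⟨g, rfl⟩)
    refine mem_normalizer_iff.2 fun x => ⟨?_, ?_⟩
    · rintro ⟨h, rfl⟩
      refine ⟨dil d h, ?_⟩
      simp only [MonoidHom.comp_apply]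
      rw [← map_inv, ← map_mul, ← map_mul, torSU_mul_emb, mul_inv_cancel_right]
    · rintro ⟨h, hh⟩
      refine ⟨dil d⁻¹ h, ?_⟩
      simp only [MonoidHom.comp_apply] at hh ⊢
      have e := torSU_mul_emb hfr d⁻¹ h
      rw [← mul_inv_eq_iff_eq_mul] at e
      simp only [← e, map_mul, hh, map_inv, inv_inv]
      group
  refine ⟨{
    e := π.comp (emb hfr)
    inj := ?inj
    tor := π.comp (torSU hfr)
    conj_tor := ?conj_tor
    tor_triv := ?tor_triv
    norm := ?norm
    cent := ?cent
    syl := ⟨T, hr.symm⟩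
    trans := (sylTrans_suThree hF).of_surjective hsurj
    inn := ?inn }, hr.symm⟩
  case inj =>
    rw [injective_iff_map_eq_one]
    intro g hg
    obtain ⟨l, hl⟩ := hscal (emb hfr g) 1 (by rw [map_one]; exact hg)
    have hl1 : l = 1 := by
      have := hl a
      rw [emb_fixes, ap_one] at this
      exact (smul_left_injective F ha0 (by simpa using this.symm))
    have h1 := hl (vec a w f 0 0 1)
    rw [hl1, one_smul, ap_one, ap_emb] at h1
    refine Heis.ext ?_ ?_
    · simpa [hfr.coord_w] using congrArg (fun z => hermForm 3 F (2 ^ n) z w) h1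
    · simpa [hfr.coord_f] using congrArg (fun z => hermForm 3 F (2 ^ n) z f) h1
  case conj_tor =>
    intro c g
    simp only [MonoidHom.comp_apply]
    rw [← map_inv, ← map_mul, ← map_mul, torSU_mul_emb, mul_inv_cancel_right]
  case tor_triv =>
    exact fun c hc => (hker _).2 (torSU_center hfr hc)
  case norm =>
    intro x hx
    rw [hr] at hx
    obtain ⟨A, rfl⟩ := hsurj x
    obtain ⟨c, hc⟩ := line_of_fix hF ha0 haa (x := ap A a) fun B hB => by
      obtain ⟨g, rfl⟩ := exists_emb_of_fix hfr hB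
      have h1 : (π A)⁻¹ * π (emb hfr g) * π A ∈ (T : Subgroup K) := by
        simpa using (mem_normalizer_iff.1 (inv_mem hx) _).1 (hr ▸ ⟨g, rfl⟩)
      rw [← hr] at h1
      obtain ⟨k, hk⟩ := h1
      obtain ⟨l, hl⟩ := hscal (emb hfr g * A) (A * emb hfr k) (by
        rw [map_mul, map_mul, show π (emb hfr k) = _ from hk]; group)
      have e : ap (emb hfr g) (ap A a) = l • ap A a := by
        rw [← ap_mul, hl, ap_mul, emb_fixes]
      have hAa : ap A a ≠ 0 := fun h => ha0 (ap_injective A (h.trans (ap_zero A).symm))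
      have hpow : ∀ i : ℕ, ap (emb hfr g ^ i) (ap A a) = l ^ i • ap A a := by
        intro i
        induction i with
        | zero => simp
        | succ i ih => rw [pow_succ, ap_mul, e, ap_smul, ih, smul_smul, pow_succ']
      have h4 := hpow (2 ^ 2)
      rw [isPGroup_fixer (p := 2) hF ha0 haa hB, ap_one] at h4
      have hl4 : l ^ 2 ^ 2 = 1 := (smul_left_injective F hAa (by simpa using h4)).symm
      rw [e, H33.SylU.eq_one_of_pow_two_pow (n := n) hl4, one_smul]
    obtain ⟨d, g, rfl⟩ := exists_eq_of_line hfr hc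
    exact ⟨d, g, map_mul _ _ _⟩
  case cent =>
    intro g hga hg1 x hx
    rw [hr]
    obtain ⟨A, rfl⟩ := hsurj x
    simp only [MonoidHom.comp_apply] at hx
    rw [← map_mul, ← map_mul] at hx
    obtain ⟨l, hl⟩ := hscal _ _ hx
    set E := emb hfr g with hE
    have hEE : ∀ y, ap E (ap E y) = y := fun y => by
      rw [← ap_mul, hE, ← map_mul, mul_self_eq_one_iff.2 hga, map_one, ap_one]
    have hl2 : ∀ y, l • (l • ap A y) = ap A y := fun y => by
      have h1 : ap A y = l • ap E (ap A (ap E y)) := by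
        have := hl (ap E y)
        rwa [ap_mul, hEE, ap_mul] at this
      have h2 : ap A (ap E y) = l • ap E (ap A y) := by
        have := hl y
        rwa [ap_mul, ap_mul] at this
      conv_rhs => rw [h1, h2, ap_smul, hEE]
    have hl1 : l = 1 := by
      have h2 := hl2 a
      rw [smul_smul] at h2
      have hAa : ap A a ≠ 0 := fun h => ha0 (ap_injective A (h.trans (ap_zero A).symm))
      have h3 : l * l = 1 := smul_left_injective F hAa (by simpa using h2)
      exact eq_one_of_pow_two_pow (n := n) (k := 1) (by rw [pow_one, sq, h3])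
    have hEy : ∀ y, ap E y = y + (g.b * hermForm 3 F (2 ^ n) y a) • a := fun y => by
      conv_lhs => rw [hfr.expand y, hE, ap_emb, hga, cj2_zero]
      conv_rhs => arg 1; rw [hfr.expand y]
      simp only [vec]
      module
    have hb : g.b ≠ 0 := fun h => hg1 (Heis.ext hga h)
    have key := hl f
    rw [hl1, one_smul, ap_mul, ap_mul, hEy f, hEy (ap A f), hfr.fu, mul_one, ap_add, ap_smul,
      add_right_inj] at key
    refine hline A (hermForm 3 F (2 ^ n) (ap A f) a) ?_
    rw [← smul_right_inj hb, smul_smul]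
    exact key
  case inn =>
    rintro φ ⟨j, hj⟩ hφT hφN
    rw [hr] at hφT hφN
    let P := U.mapSurjective (f := (toPSU : Cfsg.SU 3 F (2 ^ n) →* Cfsg.PSU 3 F (2 ^ n)))
      toPSU_surjective
    have hP : (P : Subgroup (Cfsg.PSU 3 F (2 ^ n))) = (T : Subgroup K).map ι.toMonoidHom := by
      rw [← hU, Sylow.coe_mapSurjective, Sylow.coe_mapSurjective, Subgroup.map_map, hπ]
      exact congrArg (fun h => (U : Subgroup (Cfsg.SU 3 F (2 ^ n))).map h)
        (MonoidHom.ext fun x => (ι.apply_symm_apply _).symm)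
    obtain ⟨g, hg⟩ := H74.CycInt.inn_of_trivial_on_quotient hF
      (le_trans (by norm_num) (Nat.pow_le_pow_right two_pos hn)) P (MulAut.congr ι φ) (k := j)
      (by rw [← map_pow, hj, map_one]) (by
        rw [hP, Subgroup.map_map]
        conv_rhs => rw [← hφT, Subgroup.map_map]
        exact congrArg (fun h => (T : Subgroup K).map h) (MonoidHom.ext fun x => by simp)) (by
        intro m hm
        rw [hP, ← map_equiv_normalizer_eq] at hm
        obtain ⟨x, hx, rfl⟩ := hm
        rw [hP]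
        exact ⟨_, hφN x hx, by simp⟩)
    refine ⟨ι.symm g, MulEquiv.ext fun x => ι.injective ?_⟩
    have := congrArg (fun α : MulAut (Cfsg.PSU 3 F (2 ^ n)) => α (ι x)) hg
    simp only [MulAut.congr_apply, MulEquiv.trans_apply, MulAut.conj_apply,
      MulEquiv.symm_apply_apply] at this ⊢
    rw [← this]
    simp

end Cfsg.Agent.H76.WA
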